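import Mathlib

/-!
# Groups of order `11·5` (helper837)

Sylow arguments inside a subgroup.
-/

set_option autoImplicit false

namespace Cfsg.Agent.H837.JM.Pair

variable {G : Type*} [Group G]

/-- elements of order `p` of a subgroup `H` with `p² ∤ |H|` generate conjugate subgroups -/
theorem exists_conj [Finite G] {p : ℕ} (hp : p.Prime) {H : Subgroup G} (hH : ¬ p ^ 2 ∣ Nat.card H) {a b : G}
    (ha : a ∈ H) (hb : b ∈ H) (hao : orderOf a = p) (hbo : orderOf b = p) :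
    ∃ h ∈ H, h * a * h⁻¹ ∈ Subgroup.zpowers b := by
  have : Fact p.Prime := ⟨hp⟩
  let a' : H := ⟨a, ha⟩
  let b' : H := ⟨b, hb⟩
  have hao' : orderOf a' = p := by rw [← hao]; exact Subgroup.orderOf_mk a ha
  have hbo' : orderOf b' = p := by rw [← hbo]; exact Subgroup.orderOf_mk b hb
  have hz : ∀ c : H, orderOf c = p → IsPGroup p (Subgroup.zpowers c) := by
    intro c hc
    exact IsPGroup.of_card (n := 1) (by rw [Nat.card_zpowers, hc, pow_one])
  obtain ⟨P, hP⟩ := (hz a' hao').exists_le_sylow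
  obtain ⟨Q, hQ⟩ := (hz b' hbo').exists_le_sylow
  have hcard : ∀ R : Sylow p H, ∀ c : H, orderOf c = p → Subgroup.zpowers c ≤ R → Nat.card R = p := by
    intro R c hc hR
    obtain ⟨n, hn⟩ := R.2.exists_card_eq
    have h1 : Nat.card (R : Subgroup H) ∣ Nat.card H := Subgroup.card_subgroup_dvd_card _
    have h2 : p ∣ Nat.card (R : Subgroup H) := by
      have := Subgroup.card_dvd_of_le hR
      rwa [Nat.card_zpowers, hc] at this
    have h3 : Nat.card (R : Subgroup H) = p ^ n := hn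
    rcases n with _ | _ | n
    · rw [h3, pow_zero] at h2
      exact absurd (Nat.dvd_one.1 h2) hp.one_lt.ne'
    · rw [zero_add, pow_one] at h3; exact h3
    · exfalso
      apply hH
      exact (pow_dvd_pow p (by omega : 2 ≤ n + 1 + 1)).trans (h3 ▸ h1)
  have hQe : Subgroup.zpowers b' = (Q : Subgroup H) := by
    apply Subgroup.eq_of_le_of_card_ge hQ
    rw [Nat.card_zpowers, hbo']
    exact (hcard Q b' hbo' hQ).le
  obtain ⟨x, hx⟩ := MulAction.exists_smul_eq H P Q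
  refine ⟨x, x.2, ?_⟩
  have h2 : (P : Subgroup H).map (MulAut.conj x).toMonoidHom = Q := by
    have := congrArg (fun S : Sylow p H => (S : Subgroup H)) hx
    exact this
  have h3 : x * a' * x⁻¹ ∈ (Q : Subgroup H) := by
    rw [← h2]
    exact ⟨a', hP (Subgroup.mem_zpowers a'), rfl⟩
  rw [← hQe] at h3
  obtain ⟨n, hn⟩ := h3
  exact ⟨n, congrArg Subtype.val hn⟩

theorem conj_npow (g a : G) (n : ℕ) : g * a ^ n * g⁻¹ = (g * a * g⁻¹) ^ n := (conj_pow).symm

/-- the powers of an element of order `p` -/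
theorem exists_pow {p : ℕ} (hp : p.Prime) {a b : G} (hb : orderOf b = p) (h : a ∈ Subgroup.zpowers b) (ha : a ≠ 1) :
    ∃ i, 0 < i ∧ i < p ∧ a = b ^ i := by
  have hfin : IsOfFinOrder b := orderOf_pos_iff.1 (by rw [hb]; exact hp.pos)
  obtain ⟨n, hn⟩ := (Submonoid.mem_powers_iff _ _).1 ((hfin.mem_powers_iff_mem_zpowers).2 h)
  refine ⟨n % p, ?_, Nat.mod_lt _ hp.pos, ?_⟩
  · rcases Nat.eq_zero_or_pos (n % p) with h0 | h0
    · exfalso
      apply ha
      rw [← hn, ← pow_mod_orderOf, hb, h0, pow_zero]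
    · exact h0
  · rw [← hn, ← hb, pow_mod_orderOf]

/-- `a i b` -/
theorem pow_conj_pow {f X : G} (h : f * X * f⁻¹ = X ^ 3) (k : ℕ) : f ^ k * X * (f ^ k)⁻¹ = X ^ (3 ^ k) := by
  induction k with
  | zero => simp
  | succ k ih =>
    have h1 : f ^ (k + 1) * X * (f ^ (k + 1))⁻¹ = f * (f ^ k * X * (f ^ k)⁻¹) * f⁻¹ := by
      rw [pow_succ']; group
    rw [h1, ih, ← conj_pow, h, ← pow_mul, ← pow_succ']

theorem arith1 : ∀ a < 5, ∀ i < 11, 0 < i → (3 ^ a * i) % 11 = (3 * i) % 11 → 0 < a → a = 1 := by decide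

theorem arith2 : ∀ i < 11, 0 < i → ∃ k < 5, (3 ^ k * i) % 11 = 1 ∨ (3 ^ k * i) % 11 = 10 := by decide

/-- **fusion of the elements of order 5** -/
theorem exists_fuse [Finite G] {H : Subgroup G} {X f x' f' : G} (hX : orderOf X = 11) (hf : orderOf f = 5)
    (hf' : orderOf f' = 5) (hr : f * X * f⁻¹ = X ^ 3) (hx' : x' ∈ Subgroup.zpowers X) (hx1 : x' ≠ 1)
    (hr' : f' * x' * f'⁻¹ = x' ^ 3) (hfH : f ∈ H) (hfH' : f' ∈ H) (hH : ¬ 5 ^ 2 ∣ Nat.card H) :
    ∃ h ∈ H, h * f' * h⁻¹ = f ∧ h * x' * h⁻¹ ∈ Subgroup.zpowers X ∧ ∀ y, y ∈ Subgroup.zpowers X ↔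
      h * y * h⁻¹ ∈ Subgroup.zpowers X := by
  have h11 : Nat.Prime 11 := by norm_num
  obtain ⟨i, hi0, hi, rfl⟩ := exists_pow h11 hX hx' hx1
  set N := Subgroup.normalizer (Subgroup.zpowers X : Set G) with hN
  have mem_N : ∀ g k : G, k ∈ Subgroup.zpowers X → k ≠ 1 → g * k * g⁻¹ ∈ Subgroup.zpowers X → g ∈ N := by
    intro g k hk hk1 hg
    have hfact : Fact (Nat.Prime 11) := ⟨h11⟩
    have hk2 : Subgroup.zpowers k = Subgroup.zpowers X := by
      apply Subgroup.eq_of_le_of_card_ge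
      · rw [Subgroup.zpowers_le]; exact hk
      · obtain ⟨n, hn0, hn, hkn⟩ := exists_pow h11 hX hk hk1
        have ho : orderOf k = 11 := by
          apply orderOf_eq_prime _ hk1
          rw [hkn, ← pow_mul, mul_comm, pow_mul, ← hX, pow_orderOf_eq_one, one_pow]
        rw [Nat.card_zpowers, Nat.card_zpowers, hX, ho]
    have key : ∀ y ∈ Subgroup.zpowers X, g * y * g⁻¹ ∈ Subgroup.zpowers X := by
      intro y hy
      rw [← hk2] at hy
      obtain ⟨n, rfl⟩ := hy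
      show g * k ^ n * g⁻¹ ∈ Subgroup.zpowers X
      rw [← conj_zpow]
      exact Subgroup.zpow_mem _ hg n
    rw [hN, Subgroup.mem_normalizer_iff]
    intro y
    constructor
    · exact key y
    · intro hy
      -- finite group
      have hle : (Subgroup.zpowers X).map (MulAut.conj g).toMonoidHom ≤ Subgroup.zpowers X := by
        rintro _ ⟨y, hy, rfl⟩
        exact key y hy
      have heq : (Subgroup.zpowers X).map (MulAut.conj g).toMonoidHom = Subgroup.zpowers X := by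
        apply Subgroup.eq_of_le_of_card_ge hle
        rw [Nat.card_congr ((Subgroup.zpowers X).equivMapOfInjective _ (MulAut.conj g).injective).toEquiv.symm]
      rw [← heq] at hy
      obtain ⟨y', hy', h1⟩ := hy
      have h2 : g * y' * g⁻¹ = g * y * g⁻¹ := h1
      have h3 : y' = y := by
        have := congrArg (fun z => g⁻¹ * z * g) h2
        simpa [mul_assoc] using this
      rw [← h3]; exact hy'
  have hfN : f ∈ N := mem_N f X (Subgroup.mem_zpowers X) (by
    intro h; rw [h, orderOf_one] at hX; omega) (by rw [hr]; exact Subgroup.npow_mem_zpowers X 3)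
  have hfN' : f' ∈ N := mem_N f' (X ^ i) hx' hx1 (by rw [hr']; exact Subgroup.pow_mem _ hx' 3)
  have hNH : ¬ 5 ^ 2 ∣ Nat.card (H ⊓ N : Subgroup G) := fun h =>
    hH (h.trans (Subgroup.card_dvd_of_le inf_le_left))
  obtain ⟨h, hh, hh2⟩ := exists_conj (by norm_num : Nat.Prime 5) hNH (Subgroup.mem_inf.2 ⟨hfH', hfN'⟩)
    (Subgroup.mem_inf.2 ⟨hfH, hfN⟩) hf' hf
  have hhN := (Subgroup.mem_inf.1 hh).2
  have hne : h * f' * h⁻¹ ≠ 1 := by
    intro h0
    have : f' = 1 := by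
      have h1 : f' = h⁻¹ * (h * f' * h⁻¹) * h := by group
      rw [h1, h0]; group
    rw [this, orderOf_one] at hf'; omega
  obtain ⟨a, ha0, ha, hae⟩ := exists_pow (by norm_num : Nat.Prime 5) hf hh2 hne
  have hy : h * X ^ i * h⁻¹ ∈ Subgroup.zpowers X := (Subgroup.mem_normalizer_iff.1 hhN _).1 hx'
  have hy1 : h * X ^ i * h⁻¹ ≠ 1 := by
    intro h0
    apply hx1
    have h1 : X ^ i = h⁻¹ * (h * X ^ i * h⁻¹) * h := by group
    rw [h1, h0]; group
  obtain ⟨m, hm0, hm, hme⟩ := exists_pow h11 hX hy hy1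
  have e1 : f ^ a * X ^ m * (f ^ a)⁻¹ = X ^ (3 ^ a * m) := by
    rw [← conj_pow, pow_conj_pow hr, ← pow_mul]
  have e2 : f ^ a * X ^ m * (f ^ a)⁻¹ = X ^ (3 * m) := by
    rw [← hae, ← hme]
    have : h * f' * h⁻¹ * (h * X ^ i * h⁻¹) * (h * f' * h⁻¹)⁻¹ = h * (f' * X ^ i * f'⁻¹) * h⁻¹ := by group
    rw [this, hr', ← conj_pow, hme, ← pow_mul, mul_comm]
  have e3 : (3 ^ a * m) % 11 = (3 * m) % 11 := by
    have h1 : X ^ (3 ^ a * m) = X ^ (3 * m) := by rw [← e1, e2]
    rw [pow_inj_mod, hX] at h1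
    exact h1
  have e4 : a = 1 := arith1 a ha m hm hm0 e3 ha0
  refine ⟨h, (Subgroup.mem_inf.1 hh).1, ?_, hy, fun y => Subgroup.mem_normalizer_iff.1 hhN y⟩
  rw [hae, e4, pow_one]

end Cfsg.Agent.H837.JM.Pair
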